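import Cfsg.Agent.Lib.Characters.PPrimeDegree
import Cfsg.Agent.Lib.Transfer.Basic

/-!
Camina pairs `(G, N)`: for `g ∉ N` every element of `gN` is conjugate to `g`.
Characters not containing `N` in the kernel vanish off `N`; if a prime `p` divides `|N|` and
`|G : N|`, then `N` has a nontrivial `p`-quotient normal in `G`.
-/

set_option autoImplicit false
set_option linter.all false

namespace Cfsg.Agent.Lib.Camina

open scoped ComplexConjugate
open Cfsg.Agent.Lib.Characters

universe u

/-- For `g ∉ N` all elements of `g N` are conjugate to `g`. -/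
def IsCaminaPair {G : Type*} [Group G] (N : Subgroup G) : Prop :=
  ∀ g : G, g ∉ N → ∀ n ∈ N, ∃ x : G, x * g * x⁻¹ = g * n

section Basic

variable {G : Type*} [Group G] {N : Subgroup G}

theorem IsCaminaPair.map [N.Normal] (h : IsCaminaPair N) (K : Subgroup G) [K.Normal] (hKN : K ≤ N) :
    IsCaminaPair (N.map (QuotientGroup.mk' K)) := by
  intro g hg n hn
  obtain ⟨g, rfl⟩ := QuotientGroup.mk'_surjective K g
  obtain ⟨n, hn', rfl⟩ := hn
  obtain ⟨x, hx⟩ := h g (fun hgN => hg (Subgroup.mem_map_of_mem _ hgN)) n hn'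
  exact ⟨QuotientGroup.mk' K x, by rw [← map_inv, ← map_mul, ← map_mul, hx, map_mul]⟩

/-- An element of `N` commuting with a `p`-element outside `N` is a `p`-element. -/
theorem IsCaminaPair.pow_eq_one (h : IsCaminaPair N) {g n : G} {q : ℕ} (hg : g ∉ N) (hn : n ∈ N)
    (hc : Commute g n) (hq : g ^ q = 1) : n ^ q = 1 := by
  obtain ⟨x, hx⟩ := h g hg n hn
  have := hc.mul_pow q
  rw [hq, one_mul, ← hx, conj_pow, hq, mul_one, mul_inv_cancel] at this
  exact this.symm

end Basic

section Characters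

variable {G : Type u} [Group G] [Finite G] {N : Subgroup G} [hN : N.Normal]

theorem IsCaminaPair.apply_eq_zero (h : IsCaminaPair N) {χ : G → ℂ} (hχ : IsIrrCharacter G χ)
    (hker : ¬ ∀ n ∈ N, χ n = χ 1) {g : G} (hg : g ∉ N) : χ g = 0 := by
  classical
  haveI := Fintype.ofFinite N
  obtain ⟨d, ρ, hρ, rfl⟩ := hχ
  set T : Module.End ℂ (Fin d → ℂ) := ∑ n : N, ρ (n : G) with hT
  have hρn : ∀ (m : N) v, ρ (m : G) (T v) = T v := fun m v => by
    simp only [hT, LinearMap.coe_sum, Finset.sum_apply, map_sum]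
    exact Fintype.sum_equiv (Equiv.mulLeft m) _ _ fun n => by simp [map_mul]
  have hT0 : T = 0 := by
    obtain ⟨-, hirr⟩ := (isIrreducible_iff_forall ρ).1 hρ
    let S : Submodule ℂ (Fin d → ℂ) :=
      { carrier := {v | ∀ n : N, ρ (n : G) v = v}
        add_mem' := fun {a b} ha hb n => by rw [map_add, ha n, hb n]
        zero_mem' := fun n => map_zero _
        smul_mem' := fun c v hv n => by rw [map_smul, hv n] }
    rcases hirr S (fun x v hv n => by
      have h1 := hv ⟨x⁻¹ * n * x, by simpa using hN.conj_mem _ n.2 x⁻¹⟩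
      have h2 : (n : G) * x = x * (x⁻¹ * n * x) := by group
      rw [← Module.End.mul_apply, ← map_mul, h2, map_mul, Module.End.mul_apply, h1]) with hS | hS
    · refine LinearMap.ext fun v => ?_
      have : T v ∈ S := fun m => hρn m v
      rw [hS, Submodule.mem_bot] at this
      exact this
    · refine absurd (fun n hn => ?_) hker
      have h1 : ρ n = 1 := LinearMap.ext fun v => (hS.ge Submodule.mem_top : v ∈ S) ⟨n, hn⟩
      simp [Representation.character, h1]
  have h1 : ∀ n : N, ρ.character (g * n) = ρ.character g := fun n => by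
    obtain ⟨x, hx⟩ := h g hg n n.2
    rw [← hx, Representation.char_conj]
  have h2 : ∑ n : N, ρ.character (g * n) = 0 := by
    simp only [Representation.character, map_mul]
    rw [← map_sum, ← Finset.mul_sum, ← hT, hT0, mul_zero, map_zero]
  simp only [h1, Finset.sum_const, Finset.card_univ, nsmul_eq_mul] at h2
  exact (mul_eq_zero.1 h2).resolve_left (Nat.cast_ne_zero.2 Fintype.card_ne_zero)

/-- An invariant nontrivial irreducible character of degree prime to `p`, if `p ∣ |N|`. -/
theorem exists_invariant_not_dvd {p : ℕ} [Fact p.Prime] {P : Subgroup G} (hP : IsPGroup p P)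
    (hpN : p ∣ Nat.card N) :
    ∃ θ : N → ℂ, IsIrrCharacter N θ ∧ θ ≠ (fun _ => 1) ∧ (∀ g ∈ P, conjFun N g θ = θ) ∧
      ∃ d : ℕ, θ 1 = d ∧ ¬ p ∣ d := by
  classical
  by_contra hno
  push Not at hno
  haveI := Fintype.ofFinite (IrrCharacter N)
  letI : MulAction P (IrrCharacter N) :=
    { smul := fun g θ => ⟨conjFun N (g : G)⁻¹ (θ : N → ℂ), IsIrrCharacter.conjFun N θ.2 _⟩
      one_smul := fun θ => Subtype.ext (by
        show conjFun N ((1 : P) : G)⁻¹ (θ : N → ℂ) = θ
        rw [Subgroup.coe_one, inv_one, conjFun_one])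
      mul_smul := fun g h θ => Subtype.ext (by
        show conjFun N ((g * h : P) : G)⁻¹ (θ : N → ℂ) =
          conjFun N (g : G)⁻¹ (conjFun N (h : G)⁻¹ (θ : N → ℂ))
        rw [Subgroup.coe_mul, mul_inv_rev, conjFun_mul]) }
  have hsmul : ∀ (g : P) (θ : IrrCharacter N),
      ((g • θ : IrrCharacter N) : N → ℂ) = conjFun N (g : G)⁻¹ (θ : N → ℂ) := fun _ _ => rfl
  let o : IrrCharacter N := ⟨fun _ => 1, isIrrCharacter_one⟩
  have hint : ∀ θ : IrrCharacter N, IsIntegral ℤ ((θ : N → ℂ) 1 ^ 2) := fun θ =>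
    (IsCharacter.isIntegral (IsIrrCharacter.isCharacter θ.2) _).pow 2
  obtain ⟨z, hz, hsum⟩ := exists_sum_eq_prime_mul hP
    (fun θ : IrrCharacter N => if ∀ g : P, g • θ = θ then 0 else (θ : N → ℂ) 1 ^ 2)
    (fun g θ => by
      have h1 : (∀ k : P, k • (g • θ) = g • θ) ↔ ∀ k : P, k • θ = θ := by
        constructor
        · intro hh k
          have := hh (g * k * g⁻¹)
          rwa [← mul_smul, inv_mul_cancel_right, mul_smul, smul_left_cancel_iff] at this
        · intro hh k
          rw [hh g, hh k]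
      simp only [h1]
      split_ifs
      · rfl
      · rw [hsmul, conjFun_apply_one])
    (fun θ => by split_ifs; exacts [isIntegral_zero, hint θ])
    (fun θ hθ => if_pos hθ)
  -- the fixed characters other than `1` have degree divisible by `p`
  have hfix : ∀ θ : IrrCharacter N, θ ≠ o → (∀ g : P, g • θ = θ) →
      ∃ w : ℂ, IsIntegral ℤ w ∧ (θ : N → ℂ) 1 ^ 2 = (p : ℂ) * w := by
    intro θ hne hf
    obtain ⟨d, -, hd⟩ := IsIrrCharacter.exists_apply_one θ.2
    obtain ⟨e, he⟩ : p ∣ d := by
      refine hno θ θ.2 (fun e => hne (Subtype.ext e)) (fun g hg => ?_) d hd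
      have := congrArg Subtype.val (hf ⟨g⁻¹, inv_mem hg⟩)
      rw [hsmul] at this
      simpa using this
    refine ⟨((p * e ^ 2 : ℕ) : ℂ), isIntegral_natCast_complex _, ?_⟩
    rw [hd, he]; push_cast; ring
  have key : ∀ θ : IrrCharacter N, ∃ w : ℂ, IsIntegral ℤ w ∧
      (θ : N → ℂ) 1 ^ 2 - (if ∀ g : P, g • θ = θ then 0 else (θ : N → ℂ) 1 ^ 2)
        - (if θ = o then 1 else 0) = (p : ℂ) * w := by
    intro θ
    by_cases hθo : θ = o
    · subst hθo
      refine ⟨0, isIntegral_zero, ?_⟩
      have hfo : ∀ g : P, g • o = o := fun g => Subtype.ext rfl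
      rw [if_pos hfo, if_pos rfl]; simp [o]
    by_cases hf : ∀ g : P, g • θ = θ
    · obtain ⟨w, hw, hw'⟩ := hfix θ hθo hf
      exact ⟨w, hw, by rw [if_pos hf, if_neg hθo, hw', sub_zero, sub_zero]⟩
    · exact ⟨0, isIntegral_zero, by rw [if_neg hf, if_neg hθo]; ring⟩
  choose w hw hwe using key
  have h0 := Finset.sum_congr (rfl : (Finset.univ : Finset (IrrCharacter N)) = _) fun θ _ => hwe θ
  rw [Finset.sum_sub_distrib, Finset.sum_sub_distrib, sum_degree_sq, hsum, Finset.sum_ite_eq',
    if_pos (Finset.mem_univ o), ← Finset.mul_sum] at h0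
  obtain ⟨c, hc⟩ := hpN
  refine (Fact.out : p.Prime).not_dvd_one (dvd_of_eq_prime_mul
    (z := (c : ℂ) - z - ∑ θ, w θ) (((isIntegral_natCast_complex c).sub hz).sub
      (IsIntegral.sum _ fun θ _ => hw θ)) ?_)
  rw [hc] at h0
  push_cast at h0 ⊢
  linear_combination -h0

/-- The subgroup of `G` generated by the `p'`-elements of `N`. -/
def pResidue (p : ℕ) (N : Subgroup G) : Subgroup G :=
  Subgroup.closure {n | n ∈ N ∧ (orderOf n).Coprime p}

omit [Finite G] hN in
theorem pResidue_le (p : ℕ) : pResidue p N ≤ N := (Subgroup.closure_le _).2 fun _ h => h.1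

omit [Finite G] in
instance pResidue_normal (p : ℕ) : (pResidue p N).Normal := ⟨fun n hn x => by
  have h1 : MulAut.conj x n ∈ (pResidue p N).map (MulAut.conj x).toMonoidHom :=
    Subgroup.mem_map_of_mem _ hn
  rw [pResidue, MonoidHom.map_closure] at h1
  refine Subgroup.closure_mono ?_ h1
  rintro _ ⟨w, ⟨hw, hw'⟩, rfl⟩
  refine ⟨hN.conj_mem w hw x, ?_⟩
  show (orderOf (MulAut.conj x w)).Coprime p
  rw [MulEquiv.orderOf_eq]; exact hw'⟩

theorem IsCaminaPair.pResidue_lt (h : IsCaminaPair N) {p : ℕ} [Fact p.Prime]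
    (hpN : p ∣ Nat.card N) (hpi : p ∣ N.index) : pResidue p N < N := by
  classical
  refine lt_of_le_of_ne (pResidue_le p) fun heq => ?_
  let P : Sylow p G := default
  obtain ⟨θ, hθ, hθ1, hinv, d, hd, hpd⟩ := exists_invariant_not_dvd (N := N) P.2 hpN
  haveI := Fintype.ofFinite G
  haveI := Fintype.ofFinite N
  haveI := Fintype.ofFinite (IrrCharacter G)
  -- the determinant has order prime to `p`
  set X := N ⊔ (P : Subgroup G) with hX
  haveI := Fintype.ofFinite X
  set N' := N.subgroupOf X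
  haveI := Fintype.ofFinite N'
  have hle : N ≤ X := le_sup_left
  set e : N' ≃* N := Subgroup.subgroupOfEquivOfLe hle
  set θ' : N' → ℂ := θ ∘ e
  have hθ'i : IsIrrCharacter N' θ' := IsIrrCharacter.comp_equiv hθ e
  have hXI : X ≤ inertia N θ := sup_le
    (le_inertia N (IsCharacter.isClassFunction (IsIrrCharacter.isCharacter hθ))) fun g hg => hinv g hg
  have hinv' : ∀ (g : X) (n : N'), θ' ⟨g * n * g⁻¹,
      (inferInstance : N'.Normal).conj_mem (n : X) n.2 g⟩ = θ' n :=
    fun g n => congrFun ((mem_inertia_iff N).mp (hXI g.2)) (e n)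
  obtain ⟨k, hk⟩ := IsPGroup.iff_card.mp P.2
  obtain ⟨j, hj⟩ : ∃ j, N'.index = p ^ j := by
    have h1 : N'.index = N.relIndex (P : Subgroup G) := by
      show N.relIndex X = _
      rw [hX, sup_comm, Subgroup.relIndex_sup_right]
    obtain ⟨j, -, hj⟩ := (Nat.dvd_prime_pow (Fact.out : p.Prime)).1
      (hk ▸ h1 ▸ Subgroup.relIndex_dvd_card N (P : Subgroup G))
    exact ⟨j, hj⟩
  obtain ⟨hdc, hd1⟩ := isCharacter_detChar (IsIrrCharacter.isCharacter hθ'i)
  obtain ⟨lam, hlam⟩ := IsCharacter.exists_hom_of_apply_one hdc hd1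
  have hdetord : (orderOf (detChar θ')).Coprime p := by
    obtain ⟨v, m, hm, hNm⟩ := Nat.exists_eq_pow_mul_and_not_dvd (Nat.card_pos (α := N)).ne' p
      (Fact.out : p.Prime).ne_one
    suffices hall : ∀ x : N', lam x ^ m = 1 by
      refine Nat.Coprime.coprime_dvd_left (orderOf_dvd_of_pow_eq_one (funext fun x => ?_))
        ((Fact.out : p.Prime).coprime_iff_not_dvd.2 hm).symm
      rw [Pi.pow_apply, hlam, ← Units.val_pow_eq_pow_val, hall, Units.val_one, Pi.one_apply]
    let lamN : N →* ℂˣ := lam.comp e.symm.toMonoidHom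
    suffices hK : pResidue p N ≤ Subgroup.map N.subtype ((powMonoidHom m).comp lamN).ker by
      intro x
      obtain ⟨y, hy, hyx⟩ := hK (heq.ge (e x).2)
      have hy' : lamN y ^ m = 1 := MonoidHom.mem_ker.1 hy
      rw [Subtype.ext hyx] at hy'
      simpa [lamN] using hy'
    refine (Subgroup.closure_le _).2 fun n hn => ⟨⟨n, hn.1⟩, MonoidHom.mem_ker.2 ?_, rfl⟩
    show lamN _ ^ m = 1
    have h1 : orderOf (⟨n, hn.1⟩ : N) ∣ m := by
      refine Nat.Coprime.dvd_of_dvd_mul_left ?_ (hNm ▸ orderOf_dvd_natCard (⟨n, hn.1⟩ : N))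
      rw [Subgroup.orderOf_mk]; exact hn.2.pow_right v
    rw [← map_pow, orderOf_dvd_iff_pow_eq_one.1 h1, map_one]
  obtain ⟨μ, ⟨hμ, hμ1, hμN, -⟩, -⟩ := exists_linear_extension_coprime (N := N') hdc hd1
    (fun g n => by
      have hcomp : θ' ∘ (MulAut.conjNormal g : MulAut N').toMonoidHom = θ' :=
        funext fun m => by
          rw [← hinv' g m]
          exact congrArg θ' (Subtype.ext (MulAut.conjNormal_apply g m))
      have h := congrFun (detChar_comp (MulAut.conjNormal g : MulAut N').toMonoidHom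
        (IsIrrCharacter.isCharacter hθ'i)) n
      rw [hcomp] at h
      refine Eq.trans ?_ h.symm
      exact congrArg (detChar θ') (Subtype.ext (MulAut.conjNormal_apply g n).symm))
    (by rw [hj]; exact hdetord.symm.pow_left j)
  have hd' : θ' 1 = d := by rw [← hd]; exact congrArg θ (map_one e)
  obtain ⟨η, hη, hres⟩ := exists_irr_extension_of_det (N := N') hθ'i hinv' hd'
    (by rw [hj]; exact ((Fact.out : p.Prime).coprime_iff_not_dvd.2 hpd).pow_left j) hμ hμ1 hμN
  -- `|X : N|` divides every multiplicity over `θ`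
  have hmult : ∀ χ : IrrCharacter G, ∃ a : ℕ,
      classInner (fun n : N => (χ : G → ℂ) n) θ = ((p ^ j * a : ℕ) : ℂ) := by
    intro χ
    obtain ⟨a0, ha0⟩ := IsCharacter.exists_classInner_nat
      (IsCharacter.comp (IsIrrCharacter.isCharacter χ.2) N.subtype) (IsIrrCharacter.isCharacter hθ)
    by_cases hz : classInner (fun n : N => (χ : G → ℂ) n) θ = 0
    · exact ⟨0, by simp [hz]⟩
    have hker : ¬ ∀ n ∈ N, (χ : G → ℂ) n = (χ : G → ℂ) 1 := fun hall => hθ1 <| funext fun n => by
      have h1 := apply_eq_of_classInner_ne_zero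
        (IsCharacter.comp (IsIrrCharacter.isCharacter χ.2) N.subtype) hθ hz (g := n)
        (by simpa using hall n n.2)
      have h2 : classInner (fun m : N => (χ : G → ℂ) m) θ =
          (χ : G → ℂ) 1 * classInner (fun _ : N => (1 : ℂ)) θ := by
        rw [← classInner_smul_left]
        congr 1; funext m; simp [hall m m.2]
      by_contra hne
      refine hz (h2.trans (mul_eq_zero_of_right _ ?_))
      exact IsIrrCharacter.classInner_ne isIrrCharacter_one hθ fun e1 => hne (congrFun e1 n).symm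
    obtain ⟨b, hb⟩ := IsCharacter.exists_classInner_nat
      (IsCharacter.comp (IsIrrCharacter.isCharacter χ.2) X.subtype) (IsIrrCharacter.isCharacter hη)
    refine ⟨b, ?_⟩
    have hsum : ∑ x : X, (χ : G → ℂ) x * conj (η x) = ∑ n : N, (χ : G → ℂ) n * conj (θ n) := by
      rw [← Finset.sum_subset (Finset.subset_univ (Finset.univ.filter fun x : X => (x : G) ∈ N))
        (fun x _ hx => by
          rw [Finset.mem_filter, not_and] at hx
          rw [h.apply_eq_zero χ.2 hker (hx (Finset.mem_univ x)), zero_mul])]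
      refine Finset.sum_bij' (fun x hx => ⟨(x : G), (Finset.mem_filter.1 hx).2⟩)
        (fun n _ => ⟨(n : G), hle n.2⟩) (fun _ _ => Finset.mem_univ _)
        (fun n _ => Finset.mem_filter.2 ⟨Finset.mem_univ _, n.2⟩) (fun _ _ => rfl) (fun _ _ => rfl)
        (fun x hx => ?_)
      have := hres ⟨x, (Finset.mem_filter.1 hx).2⟩
      rw [this]; rfl
    have hcard : Nat.card X = p ^ j * Nat.card N := by
      rw [← hj, ← N'.index_mul_card, Nat.card_congr e.toEquiv]
    have hb' : classInner (fun x : X => (χ : G → ℂ) x) η = b := hb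
    simp only [classInner] at hb' ⊢
    rw [hsum, hcard, Nat.cast_mul, mul_inv, mul_assoc,
      inv_mul_eq_iff_eq_mul₀ (Nat.cast_ne_zero.2 (pow_ne_zero _ (Fact.out : p.Prime).ne_zero))] at hb'
    rw [hb', Nat.cast_mul]
  choose a ha using hmult
  -- the norm of the induced character
  have hdec := eq_sum_classInner (IsCharacter.isClassFunction
    (IsCharacter.indFun N (IsIrrCharacter.isCharacter hθ)))
  have hc : ∀ χ : IrrCharacter G, classInner (χ : G → ℂ) (indFun N θ) = ((p ^ j * a χ : ℕ) : ℂ) :=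
    fun χ => (classInner_indFun_right N θ
      (IsCharacter.isClassFunction (IsIrrCharacter.isCharacter χ.2))).trans (ha χ)
  have hnorm : classInner (indFun N θ) (indFun N θ) = ((∑ χ, (p ^ j * a χ) ^ 2 : ℕ) : ℂ) := by
    nth_rw 1 [hdec]
    rw [classInner_sum_left]
    push_cast
    refine Finset.sum_congr rfl fun χ _ => ?_
    rw [classInner_smul_left, ← classInner_conj_symm (χ : G → ℂ) (indFun N θ), hc, map_natCast]
    push_cast; ring
  have hI := classInner_indFun_self N hθ
  rw [hnorm, ← Nat.cast_mul, Nat.cast_inj] at hI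
  have hdvd : Nat.card N * p ^ (2 * j) ∣ Nat.card N * N.index := by
    rw [N.card_mul_index]
    refine dvd_trans ?_ (hI ▸ Subgroup.card_subgroup_dvd_card (inertia N θ))
    exact Nat.mul_dvd_mul_left _ (Finset.dvd_sum fun χ _ => ⟨a χ ^ 2, by ring⟩)
  have h2 := Nat.dvd_of_mul_dvd_mul_left Nat.card_pos hdvd
  -- `p ^ j` is the `p`-part of the index
  let Pb : Sylow p (G ⧸ N) := P.mapSurjective (QuotientGroup.mk'_surjective N)
  have hjv : p ^ j = p ^ N.index.factorization p := by
    have h1 : N'.index = N.relIndex (P : Subgroup G) := by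
      show N.relIndex X = _
      rw [hX, sup_comm, Subgroup.relIndex_sup_right]
    rw [← hj, h1, ← QuotientGroup.ker_mk' N, Subgroup.relIndex_ker, QuotientGroup.ker_mk']
    exact Pb.card_eq_multiplicity
  rw [Nat.pow_right_injective (Fact.out : p.Prime).two_le hjv,
    (Fact.out : p.Prime).pow_dvd_iff_le_factorization Subgroup.index_ne_zero_of_finite] at h2
  have := (Fact.out : p.Prime).factorization_pos_of_dvd Subgroup.index_ne_zero_of_finite hpi
  omega

end Characters

end Cfsg.Agent.Lib.Camina
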